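import Groth.Agent.AlgSpLib.LocP
import Groth.Agent.AlgSpLib.FibreProduct
import Groth.Prelude.Def_AlgSpGpd

/-!
Properties of the source and target of a restricted groupoid.
-/

set_option autoImplicit false
set_option backward.isDefEq.respectTransparency.types false

universe u

open CategoryTheory CategoryTheory.Limits AlgebraicGeometry Opposite AlgSp

namespace Groth.Agent.GpdRestrict

open Groth.Agent.AlgSpLib

variable {S : Scheme.{u}} {B : Sp S} {G G' : GroupoidSp B}

theorem prodMap_fst (φ : GroupoidSp.Hom G' G) :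
    φ.prodMap ≫ pullback.fst G.pU G.pU = pullback.fst G'.pU G'.pU ≫ φ.fU := pullback.lift_fst _ _ _

theorem prodMap_snd (φ : GroupoidSp.Hom G' G) :
    φ.prodMap ≫ pullback.snd G.pU G.pU = pullback.snd G'.pU G'.pU ≫ φ.fU := pullback.lift_snd _ _ _

/-- The restricted source as a base change. -/
theorem isPullback_s (φ : GroupoidSp.Hom G' G) (hφ : φ.IsRestriction) :
    IsPullback (pullback.lift G'.t φ.fR φ.comm_t.symm) G'.s (pullback.snd φ.fU G.t ≫ G.s) φ.fU := by
  have key : ∀ c : PullbackCone (pullback.snd φ.fU G.t ≫ G.s) φ.fU,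
      ∃ h : (c.fst ≫ pullback.fst φ.fU G.t) ≫ G'.pU = c.snd ≫ G'.pU,
        (c.fst ≫ pullback.snd φ.fU G.t) ≫ G.j = pullback.lift _ _ h ≫ φ.prodMap := fun c => by
    have hc := c.condition
    have h : (c.fst ≫ pullback.fst φ.fU G.t) ≫ G'.pU = c.snd ≫ G'.pU := by
      rw [← φ.fU_over, ← Category.assoc c.snd, ← hc]
      simp only [Category.assoc]
      rw [G.s_over, ← G.t_over, pullback.condition_assoc]
    refine ⟨h, ?_⟩
    apply pullback.hom_ext
    · rw [Category.assoc, G.j_fst, Category.assoc (pullback.lift _ _ h) φ.prodMap, prodMap_fst, pullback.lift_fst_assoc,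
        Category.assoc, Category.assoc, pullback.condition]
    · rw [Category.assoc, G.j_snd, Category.assoc (pullback.lift _ _ h) φ.prodMap, prodMap_snd, pullback.lift_snd_assoc,
        Category.assoc]
      exact hc
  refine ⟨⟨by rw [pullback.lift_snd_assoc, φ.comm_s]⟩, ⟨PullbackCone.IsLimit.mk _
    (fun c => hφ.lift _ _ (key c).2) (fun c => ?_) (fun c => ?_) (fun c l h1 h2 => ?_)⟩⟩
  · apply pullback.hom_ext
    · rw [Category.assoc, pullback.lift_fst, ← G'.j_fst, hφ.lift_snd_assoc, pullback.lift_fst]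
    · rw [Category.assoc, pullback.lift_snd, hφ.lift_fst]
  · rw [← G'.j_snd, hφ.lift_snd_assoc, pullback.lift_snd]
  · apply hφ.hom_ext
    · rw [hφ.lift_fst, ← h1, Category.assoc, pullback.lift_snd]
    · rw [hφ.lift_snd]
      apply pullback.hom_ext
      · rw [Category.assoc, G'.j_fst, pullback.lift_fst, ← h1, Category.assoc, pullback.lift_fst]
      · rw [Category.assoc, G'.j_snd, pullback.lift_snd, h2]

/-- The restricted target as a base change. -/
theorem isPullback_t (φ : GroupoidSp.Hom G' G) (hφ : φ.IsRestriction) :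
    IsPullback (pullback.lift G'.s φ.fR φ.comm_s.symm) G'.t (pullback.snd φ.fU G.s ≫ G.t) φ.fU := by
  have key : ∀ c : PullbackCone (pullback.snd φ.fU G.s ≫ G.t) φ.fU,
      ∃ h : c.snd ≫ G'.pU = (c.fst ≫ pullback.fst φ.fU G.s) ≫ G'.pU,
        (c.fst ≫ pullback.snd φ.fU G.s) ≫ G.j = pullback.lift _ _ h ≫ φ.prodMap := fun c => by
    have hc := c.condition
    have h : c.snd ≫ G'.pU = (c.fst ≫ pullback.fst φ.fU G.s) ≫ G'.pU := by
      rw [← φ.fU_over, ← Category.assoc c.snd, ← hc]
      simp only [Category.assoc]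
      rw [G.t_over, ← G.s_over, pullback.condition_assoc]
    refine ⟨h, ?_⟩
    apply pullback.hom_ext
    · rw [Category.assoc, G.j_fst, Category.assoc (pullback.lift _ _ h) φ.prodMap, prodMap_fst, pullback.lift_fst_assoc,
        Category.assoc]
      exact hc
    · rw [Category.assoc, G.j_snd, Category.assoc (pullback.lift _ _ h) φ.prodMap, prodMap_snd, pullback.lift_snd_assoc,
        Category.assoc, Category.assoc, pullback.condition]
  refine ⟨⟨by rw [pullback.lift_snd_assoc, φ.comm_t]⟩, ⟨PullbackCone.IsLimit.mk _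
    (fun c => hφ.lift _ _ (key c).2) (fun c => ?_) (fun c => ?_) (fun c l h1 h2 => ?_)⟩⟩
  · apply pullback.hom_ext
    · rw [Category.assoc, pullback.lift_fst, ← G'.j_snd, hφ.lift_snd_assoc, pullback.lift_snd]
    · rw [Category.assoc, pullback.lift_snd, hφ.lift_fst]
  · rw [← G'.j_fst, hφ.lift_snd_assoc, pullback.lift_fst]
  · apply hφ.hom_ext
    · rw [hφ.lift_fst, ← h1, Category.assoc, pullback.lift_snd]
    · rw [hφ.lift_snd]
      apply pullback.hom_ext
      · rw [Category.assoc, G'.j_fst, pullback.lift_fst, h2]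
      · rw [Category.assoc, G'.j_snd, pullback.lift_snd, ← h1, Category.assoc, pullback.lift_fst]

theorem locP_restrict {P : MorphismProperty Scheme.{u}} [EtLocal P] (φ : GroupoidSp.Hom G' G) (hφ : φ.IsRestriction)
    (hU : IsAlgSpace G.U) (hR : IsAlgSpace G.R) (hU' : IsAlgSpace G'.U)
    (hs : LocP P G.s) (ht : LocP P G.t) (hg : LocP P φ.fU) : LocP P G'.s ∧ LocP P G'.t := by
  have h1 := isAlgSpace_pullback φ.fU G.t hU' hR hU
  have h2 := isAlgSpace_pullback φ.fU G.s hU' hR hU
  exact ⟨locP_baseChange h1 hU hU' (isPullback_s φ hφ)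
      (locP_comp h1 hR hU (locP_baseChange hU' hU hR (IsPullback.of_hasPullback φ.fU G.t) hg) hs),
    locP_baseChange h2 hU hU' (isPullback_t φ hφ)
      (locP_comp h2 hR hU (locP_baseChange hU' hU hR (IsPullback.of_hasPullback φ.fU G.s) hg) ht)⟩

end Groth.Agent.GpdRestrict
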